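import Groth.Agent.Lib.QAffFormalH7.KillDual
import Groth.Agent.Lib.FlatDepth.RkFlat
import Groth.Agent.Lib.Depth.CM
import Groth.Agent.Lib.Dlz27.Deg

/-!
# Local cohomology of the closed point killed by powers of `f` from conditions on `A_f`
-/

set_option autoImplicit false
universe u

open CategoryTheory

attribute [local instance] HasDerivedCategory.standard

noncomputable section

namespace Groth.Agent.PunctKill28

variable {A : Type u} [CommRing A] [IsNoetherianRing A] [IsLocalRing A]

omit [IsNoetherianRing A] in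
theorem krullDim_Icc_closed (p : PrimeSpectrum A) :
    Order.krullDim (Set.Icc p (IsLocalRing.closedPoint A)) = ringKrullDim (A ⧸ p.asIdeal) := by
  rw [ringKrullDim_quotient]
  have h : Set.Icc p (IsLocalRing.closedPoint A) = PrimeSpectrum.zeroLocus (p.asIdeal : Set A) := by
    ext q
    exact ⟨fun hq => hq.1, fun hq => ⟨hq, IsLocalRing.le_maximalIdeal q.isPrime.ne_top⟩⟩
  rw [h]

omit [IsNoetherianRing A] [IsLocalRing A] in
theorem skIneq_of_away (f : A) (hS : LocCoh.HasSk 2 (Localization.Away f) (Localization.Away f))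
    (p : Ideal A) [p.IsPrime] (hp : f ∉ p) : FlatDepth.SkIneq 2 (Localization.AtPrime p) := by
  have hd : Disjoint (Submonoid.powers f : Set A) (p : Set A) := Set.disjoint_left.2 fun a ha ha' => by
    obtain ⟨n, rfl⟩ := ha
    exact hp (‹p.IsPrime›.mem_of_pow_mem n ha')
  haveI := IsLocalization.isPrime_of_isPrime_disjoint (Submonoid.powers f) (Localization.Away f) p ‹_› hd
  have hc := IsLocalization.comap_map_of_isPrime_disjoint (Submonoid.powers f) (Localization.Away f) ‹p.IsPrime› hd
  obtain ⟨e⟩ := FlatDepth.nonempty_localLocalEquiv (Submonoid.powers f) (p.map (algebraMap A (Localization.Away f)))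
  have key : ∀ (a : Ideal A) [a.IsPrime], a = p → FlatDepth.SkIneq 2 (Localization.AtPrime a) →
      FlatDepth.SkIneq 2 (Localization.AtPrime p) := by
    intro a _ e' h; subst e'; exact h
  exact key _ hc (((FlatDepth.hasSk_self_iff 2 _).1 hS (p.map (algebraMap A (Localization.Away f)))).congr e.symm)

/-- The numerical conditions give a power of `f` killing `H^1` and `H^2`. -/
theorem exists_pow_kill (hd : ∃ ω : Dual.D A, Dual.IsDualizing A ω) (f : A) (hf : f ∈ IsLocalRing.maximalIdeal A)
    (hc : ((LocCoh.HasSk 2 (Localization.Away f) (Localization.Away f) ∧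
        ∀ p : Ideal A, p ∈ minimalPrimes A → f ∉ p → (3 : WithBot ℕ∞) ≤ ringKrullDim (A ⧸ p)) ∨
      (∀ p : Ideal A, ∀ _ : p.IsPrime, f ∉ p →
        (2 : WithBot ℕ∞) < (LocCoh.depth (Localization.AtPrime p) (Localization.AtPrime p) : WithBot ℕ∞) + ringKrullDim (A ⧸ p)))) :
    ∃ n : ℕ, ∀ i ≤ 2, ∀ x : LocCoh.H (IsLocalRing.maximalIdeal A) i A, f ^ n • x = 0 := by
  refine QAffFormalH7.exists_pow_kill hd _ f hf 2 A fun p q hp hq hpq => ?_
  haveI := p.isPrime
  have hqm : q = IsLocalRing.closedPoint A :=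
    PrimeSpectrum.ext (le_antisymm (IsLocalRing.le_maximalIdeal q.isPrime.ne_top) hq)
  subst hqm
  rw [DepthLib.depth_localizedModule_self, ← Bootstrap27.krullDim_Icc_eq_dimBetween]
  rcases hc with ⟨hS, hdim⟩ | hc
  · obtain ⟨ω, hω⟩ := hd
    let M := Dlz27.model hω
    let δ : PrimeSpectrum A → ℤ := Dlz27.deg hω M
    let m := IsLocalRing.closedPoint A
    have hmono : StrictMono δ := Dlz27.deg_strictMono hω M
    have hlt : δ p < δ m := hmono (lt_of_le_of_ne hpq fun e => hp (e ▸ hf))
    rw [Dlz27.krullDim_Icc hω M p m hpq]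
    have hsk := skIneq_of_away f hS p.asIdeal hp
    rw [FlatDepth.SkIneq] at hsk
    cases hn : LocCoh.depth (Localization.AtPrime p.asIdeal) (Localization.AtPrime p.asIdeal) with
    | top => rw [← WithBot.coe_add, top_add]; exact WithBot.coe_lt_coe.2 (ENat.natCast_lt_top 2)
    | coe n =>
      rw [hn, min_le_iff] at hsk
      suffices h : (2 : ℤ) < n + (δ m - δ p) by
        have h' : 2 < n + (δ m - δ p).toNat := by omega
        rw [← WithBot.coe_add, ← Nat.cast_add, ← WithBot.coe_natCast]
        exact WithBot.coe_lt_coe.2 (Nat.cast_lt.2 h')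
      rcases hsk with h2 | hht
      · have h2' : 2 ≤ n := Nat.cast_le.1 (WithBot.coe_le_coe.1 h2)
        omega
      · obtain ⟨p₀, hp₀, hp₀p⟩ := Ideal.exists_minimalPrimes_le (I := (⊥ : Ideal A)) (J := p.asIdeal) bot_le
        let P₀ : PrimeSpectrum A := ⟨p₀, hp₀.1.1⟩
        have h3 := hdim p₀ hp₀ fun h => hp (hp₀p h)
        have hP : P₀ ≤ p := hp₀p
        rw [← krullDim_Icc_closed P₀, Dlz27.krullDim_Icc hω M P₀ m (hP.trans hpq)] at h3
        have h3' : 3 ≤ (δ m - δ P₀).toNat := Nat.cast_le.1 (WithBot.coe_le_coe.1 h3)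
        have h4 : Order.krullDim (Set.Icc P₀ p) ≤ ringKrullDim (Localization.AtPrime p.asIdeal) := by
          rw [IsLocalization.AtPrime.ringKrullDim_eq_height p.asIdeal, PrimeSpectrum.height_eq_orderHeight,
            Order.height_eq_krullDim_Iic]
          exact Order.krullDim_le_of_strictMono (fun r => ⟨r.1, r.2.2⟩) fun _ _ h => h
        rw [Dlz27.krullDim_Icc hω M P₀ p hP] at h4
        have h5 : (δ p - δ P₀).toNat ≤ n := by exact_mod_cast h4.trans hht
        have := hmono.monotone hP
        omega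
  · rw [krullDim_Icc_closed]
    exact_mod_cast hc p.asIdeal p.isPrime hp

end Groth.Agent.PunctKill28
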